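import Cfsg.Agent.ClosedTwo.PspWr
import Cfsg.Agent.ClassicalGeometry.SympInvolutions
import Cfsg.Agent.LieClassical.SympCenter
import Cfsg.Agent.ClosedTwo.Alt
import Cfsg.Agent.HoltZ.Psp
import Cfsg.Agent.S0261
import Cfsg.Agent.S0268
import Cfsg.Agent.S0276
import Cfsg.Agent.LieClassical.SympCount
import Cfsg.Agent.FastGrp
import Cfsg.Agent.Prune
set_option linter.all false
prune_inst 0x7ffdfdfb7ff97fffdfff7e7ffff7dffdfdbb7fffffdff9cb7fe8ebff3fff7b0c4fc5fba78feb90fe5ef7e29494f87b53fdffffffea6bfc7ffffd5ff45ffbffdffdf6bd0851d79c340fbc0fff63f07f8e7f3fffffffffffffffffffffffffffbeffffffffffff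
open scoped Cfsg.Agent.FastGrp

-- part: ClosedTwo/PspOne
section
/-!
# S1252 for `PSp_2m(q)`, `q` odd: from one element to the involution `-1` on one plane (helper5)
-/

set_option autoImplicit false
set_option linter.unusedSectionVars false

namespace Cfsg.Agent.ClosedTwo.Psp

open Matrix Subgroup Cfsg Cfsg.Agent.ClassicalGeometry.SympBasic Cfsg.Agent.HoltZ.Psp Cfsg.Agent.ClosedTwo.XCover

variable {F : Type*} [Field F] {m : ℕ}

local notation "V" => (Fin m ⊕ Fin m → F)
local notation "G" => Matrix.symplecticGroup (Fin m) F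
local notation "f" => sympForm m F
local notation "Mat" => Matrix (Fin m ⊕ Fin m) (Fin m ⊕ Fin m) F
local notation "SL" => Matrix.SpecialLinearGroup (Fin 2) F

/-! ### The swap of two planes -/

/-- sum and difference of two planes -/
def cf (i j : Fin m) (v : V) : V :=
  Sum.elim (fun k => if k = i then v (.inl i) + v (.inl j) else if k = j then v (.inl i) - v (.inl j) else v (.inl k))
    (fun k => if k = i then (v (.inr i) + v (.inr j)) / 2 else if k = j then (v (.inr i) - v (.inr j)) / 2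
      else v (.inr k))

theorem cf_inl (i j : Fin m) (v : V) (k : Fin m) : cf i j v (.inl k) =
    if k = i then v (.inl i) + v (.inl j) else if k = j then v (.inl i) - v (.inl j) else v (.inl k) := rfl

theorem cf_inr (i j : Fin m) (v : V) (k : Fin m) : cf i j v (.inr k) =
    if k = i then (v (.inr i) + v (.inr j)) / 2 else if k = j then (v (.inr i) - v (.inr j)) / 2
      else v (.inr k) := rfl

theorem sum_pair {i j : Fin m} (hij : i ≠ j) {a b : Fin m → F} (h : ∀ k, k ≠ i → k ≠ j → a k = b k)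
    (h' : a i + a j = b i + b j) : ∑ k, a k = ∑ k, b k := by
  classical
  have hj : j ∈ Finset.univ.erase i := Finset.mem_erase.2 ⟨hij.symm, Finset.mem_univ _⟩
  rw [← Finset.add_sum_erase _ a (Finset.mem_univ i), ← Finset.add_sum_erase _ b (Finset.mem_univ i),
    ← Finset.add_sum_erase _ a hj, ← Finset.add_sum_erase _ b hj, ← add_assoc, ← add_assoc, h']
  congr 1
  refine Finset.sum_congr rfl fun k hk => ?_
  rw [Finset.mem_erase, Finset.mem_erase] at hk
  exact h k hk.2.1 hk.1

theorem cf_form (h2 : (2 : F) ≠ 0) {i j : Fin m} (hij : i ≠ j) (u v : V) : f (cf i j u) (cf i j v) = f u v := by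
  rw [sympForm_eq_sum, sympForm_eq_sum]
  refine sum_pair hij (fun k hi hj => ?_) ?_
  · simp only [cf_inl, cf_inr, if_neg hi, if_neg hj]
  · simp only [cf_inl, cf_inr, if_true, if_neg hij.symm]
    field_simp
    ring

/-- sum and difference of two planes, as a group element -/
def cE (h2 : (2 : F) ≠ 0) {i j : Fin m} (hij : i ≠ j) : G := ofFun (cf i j)
  (fun u v => by
    ext (k | k)
    · simp only [cf_inl, Pi.add_apply]; split_ifs <;> ring
    · simp only [cf_inr, Pi.add_apply]; split_ifs <;> ring)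
  (fun a v => by
    ext (k | k)
    · simp only [cf_inl, Pi.smul_apply, smul_eq_mul]; split_ifs <;> ring
    · simp only [cf_inr, Pi.smul_apply, smul_eq_mul]; split_ifs <;> ring)
  (cf_form h2 hij)

theorem cE_mulVec (h2 : (2 : F) ≠ 0) {i j : Fin m} (hij : i ≠ j) (v : V) :
    ((cE h2 hij : G) : Mat) *ᵥ v = cf i j v := ofFun_mulVec _ _ _ _ v

theorem neg_apply (a b : Fin 2) : (-1 : SL) a b = if a = b then -1 else 0 := by
  rw [Matrix.SpecialLinearGroup.coe_neg, Matrix.neg_apply, Matrix.SpecialLinearGroup.coe_one, Matrix.one_apply]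
  split_ifs <;> simp

/-- a swap of two planes is conjugate to `-1` on one plane -/
theorem swap_conj (h2 : (2 : F) ≠ 0) {i j : Fin m} (hij : i ≠ j) {g : Fin m → SL} (hi : g i = 1) (hj : g j = 1) :
    IsConj (pmh (Equiv.swap i j) * blk g : G) (blk (Pi.mulSingle j (-1) * g)) := by
  rw [isConj_iff]
  refine ⟨cE h2 hij, ?_⟩
  rw [mul_inv_eq_iff_eq_mul]
  refine ext_mulVec fun v => ?_
  rw [coe_mul_mulVec, coe_mul_mulVec, coe_mul_mulVec, cE_mulVec, cE_mulVec, pmh_mulVec, blk_mulVec, blk_mulVec]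
  have e0 : ∀ k, k ≠ i → k ≠ j → (Pi.mulSingle j (-1) * g : Fin m → SL) k = g k := by
    intro k _ hk
    rw [Pi.mul_apply, Pi.mulSingle_eq_of_ne hk, one_mul]
  have e1 : (Pi.mulSingle j (-1) * g : Fin m → SL) i = 1 := by
    rw [Pi.mul_apply, Pi.mulSingle_eq_of_ne hij, one_mul, hi]
  have e2 : (Pi.mulSingle j (-1) * g : Fin m → SL) j = -1 := by
    rw [Pi.mul_apply, Pi.mulSingle_eq_same, hj, mul_one]
  ext (k | k)
  · by_cases hki : k = i
    · subst hki
      rw [cf_inl, if_pos rfl, pf_inl, pf_inl, bf_inl, bf_inl, bf_inl, e1, cf_inl, cf_inr, if_pos rfl, if_pos rfl,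
        Equiv.symm_swap, Equiv.swap_apply_left, Equiv.swap_apply_right, hi, hj]
      simp only [add_comm, _root_.Fin.isValue, _root_.Matrix.SpecialLinearGroup.coe_one, _root_.Matrix.one_apply_eq, _root_.one_mul, _root_.ne_eq, _root_.zero_ne_one, _root_.not_false_eq_true, _root_.Matrix.one_apply_ne, _root_.MulZeroClass.zero_mul, _root_.add_comm, _root_.zero_add]
    by_cases hkj : k = j
    · subst hkj
      rw [cf_inl, if_neg hij.symm, if_pos rfl, pf_inl, pf_inl, bf_inl, bf_inl, bf_inl, e2, cf_inl, cf_inr,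
        if_neg hij.symm, if_pos rfl, if_neg hij.symm, if_pos rfl,
        Equiv.symm_swap, Equiv.swap_apply_left, Equiv.swap_apply_right, hi, hj, neg_apply, neg_apply]
      simp only [_root_.Fin.isValue, _root_.Matrix.SpecialLinearGroup.coe_one, _root_.Matrix.one_apply_eq, _root_.one_mul, _root_.ne_eq, _root_.zero_ne_one, _root_.not_false_eq_true, _root_.Matrix.one_apply_ne, _root_.MulZeroClass.zero_mul, _root_.add_zero, ↓ _root_.reduceIte, _root_.neg_mul, _root_.neg_sub]
    · rw [cf_inl, if_neg hki, if_neg hkj, pf_inl, Equiv.symm_swap, Equiv.swap_apply_of_ne_of_ne hki hkj, bf_inl,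
        bf_inl, e0 k hki hkj, cf_inl, cf_inr, if_neg hki, if_neg hkj, if_neg hki, if_neg hkj]
  · by_cases hki : k = i
    · subst hki
      rw [cf_inr, if_pos rfl, pf_inr, pf_inr, bf_inr, bf_inr, bf_inr, e1, cf_inl, cf_inr, if_pos rfl, if_pos rfl,
        Equiv.symm_swap, Equiv.swap_apply_left, Equiv.swap_apply_right, hi, hj]
      simp only [add_comm, _root_.Fin.isValue, _root_.Matrix.SpecialLinearGroup.coe_one, _root_.ne_eq, _root_.one_ne_zero, _root_.not_false_eq_true, _root_.Matrix.one_apply_ne, _root_.MulZeroClass.zero_mul, _root_.Matrix.one_apply_eq, _root_.one_mul, _root_.zero_add, _root_.add_comm]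
    by_cases hkj : k = j
    · subst hkj
      rw [cf_inr, if_neg hij.symm, if_pos rfl, pf_inr, pf_inr, bf_inr, bf_inr, bf_inr, e2, cf_inl, cf_inr,
        if_neg hij.symm, if_pos rfl, if_neg hij.symm, if_pos rfl,
        Equiv.symm_swap, Equiv.swap_apply_left, Equiv.swap_apply_right, hi, hj, neg_apply, neg_apply]
      simp only [_root_.Fin.isValue, _root_.Matrix.SpecialLinearGroup.coe_one, _root_.ne_eq, _root_.one_ne_zero, _root_.not_false_eq_true, _root_.Matrix.one_apply_ne, _root_.MulZeroClass.zero_mul, _root_.Matrix.one_apply_eq, _root_.one_mul, _root_.zero_add, ↓ _root_.reduceIte, _root_.neg_mul]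
      ring
    · rw [cf_inr, if_neg hki, if_neg hkj, pf_inr, Equiv.symm_swap, Equiv.swap_apply_of_ne_of_ne hki hkj, bf_inr,
        bf_inr, e0 k hki hkj, cf_inl, cf_inr, if_neg hki, if_neg hkj, if_neg hki, if_neg hkj]

/-! ### Elements with square `-1` on a plane -/

theorem ext_plane (i : Fin m) {A B : G} (h1 : (A : Mat) *ᵥ Pi.single (.inl i) 1 = (B : Mat) *ᵥ Pi.single (.inl i) 1)
    (h2 : (A : Mat) *ᵥ Pi.single (.inr i) 1 = (B : Mat) *ᵥ Pi.single (.inr i) 1)
    (h3 : ∀ v : V, v (.inl i) = 0 → v (.inr i) = 0 → (A : Mat) *ᵥ v = (B : Mat) *ᵥ v) : A = B := by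
  refine ext_mulVec fun v => ?_
  set w : V := v - v (.inl i) • Pi.single (.inl i) 1 - v (.inr i) • Pi.single (.inr i) 1 with hw
  have hv : v = w + v (.inl i) • Pi.single (.inl i) 1 + v (.inr i) • Pi.single (.inr i) 1 := by
    rw [hw]; abel
  have hw1 : w (.inl i) = 0 := by
    rw [hw, Pi.sub_apply, Pi.sub_apply, Pi.smul_apply, Pi.smul_apply, Pi.single_eq_same,
      Pi.single_eq_of_ne (Sum.inl_ne_inr), smul_eq_mul, smul_eq_mul]
    ring
  have hw2 : w (.inr i) = 0 := by
    rw [hw, Pi.sub_apply, Pi.sub_apply, Pi.smul_apply, Pi.smul_apply, Pi.single_eq_same,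
      Pi.single_eq_of_ne (Sum.inr_ne_inl), smul_eq_mul, smul_eq_mul]
    ring
  rw [hv, mulVec_add, mulVec_add, mulVec_add, mulVec_add, mulVec_smul, mulVec_smul, mulVec_smul, mulVec_smul, h1, h2,
    h3 w hw1 hw2]

theorem sg_ll (i k : Fin m) : (Pi.single (.inl i) 1 : V) (.inl k) = if k = i then 1 else 0 := by
  rw [Pi.single_apply]; simp

theorem sg_lr (i k : Fin m) : (Pi.single (.inl i) 1 : V) (.inr k) = 0 := by
  rw [Pi.single_apply]; simp

theorem sg_rl (i k : Fin m) : (Pi.single (.inr i) 1 : V) (.inl k) = 0 := by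
  rw [Pi.single_apply]; simp

theorem sg_rr (i k : Fin m) : (Pi.single (.inr i) 1 : V) (.inr k) = if k = i then 1 else 0 := by
  rw [Pi.single_apply]; simp

theorem blk_single_inl (i : Fin m) (N : SL) : ((blk (Pi.mulSingle i N) : G) : Mat) *ᵥ Pi.single (.inl i) 1 =
    N 0 0 • Pi.single (.inl i) 1 + N 1 0 • Pi.single (.inr i) 1 := by
  rw [blk_mulVec]
  ext (k | k)
  · rw [bf_inl, Pi.add_apply, Pi.smul_apply, Pi.smul_apply, sg_ll, sg_lr, sg_rl]
    by_cases hk : k = i
    · subst hk
      rw [Pi.mulSingle_eq_same]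
      simp
    · rw [if_neg hk]
      simp
  · rw [bf_inr, Pi.add_apply, Pi.smul_apply, Pi.smul_apply, sg_ll, sg_lr, sg_rr]
    by_cases hk : k = i
    · subst hk
      rw [Pi.mulSingle_eq_same]
      simp
    · rw [if_neg hk]
      simp

theorem blk_single_inr (i : Fin m) (N : SL) : ((blk (Pi.mulSingle i N) : G) : Mat) *ᵥ Pi.single (.inr i) 1 =
    N 0 1 • Pi.single (.inl i) 1 + N 1 1 • Pi.single (.inr i) 1 := by
  rw [blk_mulVec]
  ext (k | k)
  · rw [bf_inl, Pi.add_apply, Pi.smul_apply, Pi.smul_apply, sg_ll, sg_rr, sg_rl]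
    by_cases hk : k = i
    · subst hk
      rw [Pi.mulSingle_eq_same]
      simp
    · rw [if_neg hk]
      simp
  · rw [bf_inr, Pi.add_apply, Pi.smul_apply, Pi.smul_apply, sg_rl, sg_lr, sg_rr]
    by_cases hk : k = i
    · subst hk
      rw [Pi.mulSingle_eq_same]
      simp
    · rw [if_neg hk]
      simp

theorem blk_fix (i : Fin m) (N : SL) {v : V} (h1 : v (.inl i) = 0) (h2 : v (.inr i) = 0) :
    ((blk (Pi.mulSingle i N) : G) : Mat) *ᵥ v = v := by
  rw [blk_mulVec]
  ext (k | k)
  · rw [bf_inl]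
    by_cases hk : k = i
    · subst hk
      rw [h1, h2]; simp
    · rw [Pi.mulSingle_eq_of_ne hk]; simp only [_root_.Fin.isValue, _root_.Matrix.SpecialLinearGroup.coe_one, _root_.Matrix.one_apply_eq, _root_.one_mul, _root_.ne_eq, _root_.zero_ne_one, _root_.not_false_eq_true, _root_.Matrix.one_apply_ne, _root_.MulZeroClass.zero_mul, _root_.add_zero]
  · rw [bf_inr]
    by_cases hk : k = i
    · subst hk
      rw [h1, h2]; simp
    · rw [Pi.mulSingle_eq_of_ne hk]; simp

/-- `-1` on the plane `i` -/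
theorem t_mulVec (i : Fin m) (v : V) : ((blk (Pi.mulSingle i (-1)) : G) : Mat) *ᵥ v =
    v - (2 * v (.inl i)) • Pi.single (.inl i) 1 - (2 * v (.inr i)) • Pi.single (.inr i) 1 := by
  rw [blk_mulVec]
  ext (k | k)
  · rw [bf_inl, Pi.sub_apply, Pi.sub_apply, Pi.smul_apply, Pi.smul_apply, sg_ll, sg_rl]
    by_cases hk : k = i
    · subst hk
      rw [Pi.mulSingle_eq_same, neg_apply, neg_apply]
      simp
      ring
    · rw [Pi.mulSingle_eq_of_ne hk, if_neg hk]
      simp only [_root_.Fin.isValue, _root_.Matrix.SpecialLinearGroup.coe_one, _root_.Matrix.one_apply_eq, _root_.one_mul, _root_.ne_eq, _root_.zero_ne_one, _root_.not_false_eq_true, _root_.Matrix.one_apply_ne, _root_.MulZeroClass.zero_mul, _root_.add_zero, _root_.smul_eq_mul, _root_.MulZeroClass.mul_zero, _root_.sub_zero]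
  · rw [bf_inr, Pi.sub_apply, Pi.sub_apply, Pi.smul_apply, Pi.smul_apply, sg_lr, sg_rr]
    by_cases hk : k = i
    · subst hk
      rw [Pi.mulSingle_eq_same, neg_apply, neg_apply]
      simp
      ring
    · rw [Pi.mulSingle_eq_of_ne hk, if_neg hk]
      simp

/-- **the key step in coordinates** -/
theorem conj_std (i : Fin m) {x : G} {c : F} (hc : c ≠ 0)
    (hr : (x : Mat) *ᵥ Pi.single (.inr i) 1 = c • Pi.single (.inl i) 1)
    (hl : (x : Mat) *ᵥ Pi.single (.inl i) 1 = (-c⁻¹) • Pi.single (.inr i) 1) {p s : F} (h : p ^ 2 + s ^ 2 = -1) :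
    (∃ y : G, y * x * y⁻¹ = blk (Pi.mulSingle i (-1)) * x) ∧
      (blk (Pi.mulSingle i (-1)) : G) * x = x * blk (Pi.mulSingle i (-1)) := by
  -- `x` preserves the complement
  have hx1 : ∀ v : V, v (.inl i) = 0 → v (.inr i) = 0 → ((x : Mat) *ᵥ v) (.inl i) = 0 := by
    intro v _ h2
    have e : (Pi.single (.inr i) 1 : V) = (x : Mat) *ᵥ ((-c) • Pi.single (.inl i) 1) := by
      rw [mulVec_smul, hl, smul_smul]
      have : -c * -c⁻¹ = 1 := by field_simp
      rw [this, one_smul]
    have h3 : f (Pi.single (.inr i) 1) ((x : Mat) *ᵥ v) = 0 := by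
      rw [e, sympForm_mulVec x.2, sympForm_smul_left, sympForm_single_inl_left, h2]
      simp
    rwa [sympForm_single_inr_left] at h3
  have hx2 : ∀ v : V, v (.inl i) = 0 → v (.inr i) = 0 → ((x : Mat) *ᵥ v) (.inr i) = 0 := by
    intro v h1 _
    have e : (Pi.single (.inl i) 1 : V) = (x : Mat) *ᵥ (c⁻¹ • Pi.single (.inr i) 1) := by
      rw [mulVec_smul, hr, smul_smul, inv_mul_cancel₀ hc, one_smul]
    have h3 : f (Pi.single (.inl i) 1) ((x : Mat) *ᵥ v) = 0 := by
      rw [e, sympForm_mulVec x.2, sympForm_smul_left, sympForm_single_inr_left, h1]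
      simp
    rw [sympForm_single_inl_left] at h3
    simpa using h3
  have hd : (!![p, s * c; s * c⁻¹, -p] : Matrix (Fin 2) (Fin 2) F).det = 1 := by
    rw [det_fin_two_of]
    have : s * c * (s * c⁻¹) = s ^ 2 := by field_simp
    rw [this]
    linear_combination -h
  let N : SL := ⟨!![p, s * c; s * c⁻¹, -p], hd⟩
  have n00 : N 0 0 = p := rfl
  have n01 : N 0 1 = s * c := rfl
  have n10 : N 1 0 = s * c⁻¹ := rfl
  have n11 : N 1 1 = -p := rfl
  constructor
  · refine ⟨blk (Pi.mulSingle i N), ?_⟩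
    rw [mul_inv_eq_iff_eq_mul]
    refine ext_plane i ?_ ?_ fun v h1 h2 => ?_
    · rw [coe_mul_mulVec, coe_mul_mulVec, coe_mul_mulVec, hl, mulVec_smul, blk_single_inr, blk_single_inl,
        mulVec_add, mulVec_smul, mulVec_smul, hl, hr, mulVec_add, mulVec_smul, mulVec_smul, mulVec_smul, mulVec_smul,
        blk_single_inl, blk_single_inr, n00, n01, n10, n11]
      ext (k | k) <;> simp only [neg_apply, smul_smul, _root_.neg_smul, _root_.Pi.smul_apply, _root_.Pi.add_apply, _root_.smul_eq_mul, _root_.Pi.neg_apply, _root_.ne_eq, _root_.reduceCtorEq, _root_.not_false_eq_true, _root_.Pi.single_eq_of_ne, _root_.MulZeroClass.mul_zero, _root_.neg_zero, _root_.add_zero, _root_.neg_mul, _root_.Fin.isValue, _root_.Cfsg.Agent.ClosedTwo.Psp.neg_apply, _root_.zero_ne_one, ↓ _root_.reduceIte, _root_.zero_smul, _root_.one_smul, _root_.zero_add, _root_.smul_neg, _root_.neg_neg, _root_.smul_smul, _root_.one_ne_zero, _root_.neg_inj, _root_.mul_neg] <;> by_cases hk : k = i <;> simp only [hk,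 _root_.Pi.single_eq_same, _root_.mul_one, _root_.ne_eq, _root_.Sum.inl.injEq, _root_.not_false_eq_true, _root_.Pi.single_eq_of_ne, _root_.MulZeroClass.mul_zero, _root_.Sum.inr.injEq] <;> field_simp
    · rw [coe_mul_mulVec, coe_mul_mulVec, coe_mul_mulVec, hr, mulVec_smul, blk_single_inl, blk_single_inr,
        mulVec_add, mulVec_smul, mulVec_smul, hl, hr, mulVec_add, mulVec_smul, mulVec_smul, mulVec_smul, mulVec_smul,
        blk_single_inl, blk_single_inr, n00, n01, n10, n11]
      ext (k | k) <;> simp only [neg_apply, smul_smul, _root_.Pi.smul_apply, _root_.Pi.add_apply, _root_.smul_eq_mul, _root_.ne_eq, _root_.reduceCtorEq, _root_.not_false_eq_true, _root_.Pi.single_eq_of_ne, _root_.MulZeroClass.mul_zero, _root_.add_zero, _root_.Fin.isValue, _root_.Cfsg.Agent.ClosedTwo.Psp.neg_apply, _root_.zero_ne_one, ↓ _root_.reduceIte, _root_.zero_smul, _root_.neg_smul, _root_.one_smul, _root_.zero_add, _root_.smul_neg, _root_.neg_neg, _root_.smul_smul, _root_.one_ne_zero, _root_.neg_mul]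 <;> by_cases hk : k = i <;> simp only [hk, _root_.Pi.single_eq_same, _root_.mul_one, _root_.ne_eq, _root_.Sum.inl.injEq, _root_.not_false_eq_true, _root_.Pi.single_eq_of_ne, _root_.MulZeroClass.mul_zero, _root_.Sum.inr.injEq] <;> field_simp
    · rw [coe_mul_mulVec, coe_mul_mulVec, coe_mul_mulVec, blk_fix i N h1 h2, blk_fix i N (hx1 v h1 h2) (hx2 v h1 h2),
        blk_fix i (-1) (hx1 v h1 h2) (hx2 v h1 h2)]
  · refine ext_plane i ?_ ?_ fun v h1 h2 => ?_
    · rw [coe_mul_mulVec, coe_mul_mulVec, hl, mulVec_smul, blk_single_inr, blk_single_inl,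
        mulVec_add, mulVec_smul, mulVec_smul, hl, hr]
      ext (k | k) <;> simp [neg_apply]
    · rw [coe_mul_mulVec, coe_mul_mulVec, hr, mulVec_smul, blk_single_inr, blk_single_inl,
        mulVec_add, mulVec_smul, mulVec_smul, hl, hr]
      ext (k | k) <;> simp [neg_apply]
    · rw [coe_mul_mulVec, coe_mul_mulVec, blk_fix i (-1) h1 h2, blk_fix i (-1) (hx1 v h1 h2) (hx2 v h1 h2)]

end Cfsg.Agent.ClosedTwo.Psp
end

-- part: ClosedTwo/PspEnd
section
-- merged: Cfsg.Agent.ClosedTwo.PspStart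
section

/-!
# S1252 for `PSp_2m(q)`, `q` odd: the involution `-1` on one plane is conjugate into `A` (helper5)
-/

set_option autoImplicit false
set_option linter.unusedSectionVars false

namespace Cfsg.Agent.ClosedTwo.Psp

open Matrix Subgroup Cfsg Cfsg.Agent.ClassicalGeometry.SympBasic Cfsg.Agent.HoltZ.Psp Cfsg.Agent.ClosedTwo.XCover
open Cfsg.Agent.ClassicalGeometry.SympInvolutions (HasPattern exists_hasPattern isConj_of_hasPattern HypFam)

variable {F : Type*} [Field F] {m : ℕ}

local notation "V" => (Fin m ⊕ Fin m → F)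
local notation "G" => Matrix.symplecticGroup (Fin m) F
local notation "f" => sympForm m F
local notation "Mat" => Matrix (Fin m ⊕ Fin m) (Fin m ⊕ Fin m) F
local notation "SL" => Matrix.SpecialLinearGroup (Fin 2) F

section xc

variable {H : Type*} [Group H] [Finite H] {π : Matrix.symplecticGroup (Fin m) F →* H} {S : Sylow 2 H} {A : Subgroup H}

theorem t_sq (i : Fin m) : (blk (Pi.mulSingle i (-1)) : G) * blk (Pi.mulSingle i (-1)) = 1 := by
  rw [← map_mul, ← Pi.mulSingle_mul, neg_mul_neg, one_mul, Pi.mulSingle_one, map_one]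

/-- **an element with square `-1` on a plane** -/
theorem xc_of_plane (hA : IsStronglyClosed A (S : Subgroup H)) (h2 : (2 : F) ≠ 0) [Fintype F] {x : G} (hx : XC π A x)
    {n : ℕ} (hn : x ^ 2 ^ n = 1) {v : V} (hv : f v ((x : Mat) *ᵥ v) ≠ 0)
    (hxx : (x : Mat) *ᵥ ((x : Mat) *ᵥ v) = -v) (i : Fin m) : XC π A (blk (Pi.mulSingle i (-1))) := by
  obtain ⟨p, s, hps⟩ : ∃ p s : F, p ^ 2 + s ^ 2 = -1 := Cfsg.Agent.HoltZ.exists_sq_add_sq h2 (-1)
  set c : F := f v ((x : Mat) *ᵥ v) with hc
  have h1 : f v (c⁻¹ • ((x : Mat) *ᵥ v)) = 1 := by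
    rw [sympForm_smul_right, ← hc, inv_mul_cancel₀ hv]
  have h3 : f (Pi.single (.inr i) 1) (Pi.single (.inl i) 1) = 1 := by
    rw [sympForm_single_inr_left, sg_ll, if_pos rfl]
  obtain ⟨g, -, hg1, hg2⟩ := exists_transvGroup_hyperbolic h1 h3
  have hg2' : (g : Mat) *ᵥ ((x : Mat) *ᵥ v) = c • Pi.single (.inl i) 1 := by
    rw [← hg2, mulVec_smul, smul_smul, mul_inv_cancel₀ hv, one_smul]
  have hinv : ∀ w : V, ((g⁻¹ : G) : Mat) *ᵥ ((g : Mat) *ᵥ w) = w := inv_mulVec_self g
  have hr : ((g * x * g⁻¹ : G) : Mat) *ᵥ Pi.single (.inr i) 1 = c • Pi.single (.inl i) 1 := by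
    rw [coe_mul_mulVec, coe_mul_mulVec, ← hg1, hinv, hg2']
  have hl : ((g * x * g⁻¹ : G) : Mat) *ᵥ Pi.single (.inl i) 1 = (-c⁻¹) • Pi.single (.inr i) 1 := by
    rw [coe_mul_mulVec, coe_mul_mulVec, ← hg2, hinv, mulVec_smul, hxx, mulVec_smul, mulVec_neg, hg1, smul_neg, neg_smul]
  obtain ⟨⟨y, hy⟩, hcomm⟩ := conj_std i hv hr hl hps
  have hx' : XC π A (g * x * g⁻¹) := hx.cj g
  have hxy := hx'.cj y
  rw [hy] at hxy
  have hord : (g * x * g⁻¹) ^ 2 ^ n = 1 := by rw [conj_pow, hn]; group
  have h4 : XC π A (blk (Pi.mulSingle i (-1)) * (g * x * g⁻¹) * (g * x * g⁻¹)⁻¹) := by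
    refine XC.mul_comm' hA (k := n + 1) (l := n) ?_ ?_ ?_ hxy hx'.inv
    · rw [(show Commute (blk (Pi.mulSingle i (-1)) : G) (g * x * g⁻¹) from hcomm).mul_pow, pow_succ, pow_mul, pow_mul,
        hord, one_pow, mul_one, ← pow_mul, mul_comm, pow_mul, pow_two, t_sq, one_pow]
    · rw [inv_pow, hord, inv_one]
    · rw [mul_inv_cancel_right, hcomm, inv_mul_cancel_left]
  rwa [mul_inv_cancel_right] at h4

/-- square `-1` -/
theorem xc_of_neg (hA : IsStronglyClosed A (S : Subgroup H)) (h2 : (2 : F) ≠ 0) [Fintype F] {x : G} (hx : XC π A x)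
    (hxx : ∀ v : V, (x : Mat) *ᵥ ((x : Mat) *ᵥ v) = -v) (i : Fin m) : XC π A (blk (Pi.mulSingle i (-1))) := by
  have h4 : x ^ 2 ^ 2 = 1 := by
    refine ext_mulVec fun v => ?_
    rw [show x ^ 2 ^ 2 = x * (x * (x * x)) by
      rw [show (2 : ℕ) ^ 2 = 4 from rfl, pow_succ, pow_succ, pow_two, mul_assoc (x * x) x x, mul_assoc x x (x * x)],
      coe_mul_mulVec,
      coe_mul_mulVec, coe_mul_mulVec, hxx v, mulVec_neg, mulVec_neg, hxx v, neg_neg]
    exact (one_mulVec v).symm
  obtain ⟨v, hv⟩ : ∃ v : V, f v ((x : Mat) *ᵥ v) ≠ 0 := by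
    by_contra hcon
    push Not at hcon
    have h5 : ∀ u v : V, f u ((x : Mat) *ᵥ v) = 0 := by
      intro u v
      have h6 := hcon (u + v)
      rw [mulVec_add, sympForm_add_left, sympForm_add_right, sympForm_add_right, hcon, hcon, zero_add, add_zero] at h6
      have h7 : f v ((x : Mat) *ᵥ u) = f u ((x : Mat) *ᵥ v) := by
        rw [← sympForm_mulVec x.2 v ((x : Mat) *ᵥ u), hxx, sympForm_neg_right, sympForm_swap, neg_neg]
      rw [h7] at h6
      have : 2 * f u ((x : Mat) *ᵥ v) = 0 := by linear_combination h6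
      exact (mul_eq_zero.1 this).resolve_left h2
    have h8 : ((x : Mat) *ᵥ Pi.single (.inl i) 1 : V) = 0 := eq_zero_of_forall_sympForm_left fun u => h5 u _
    have h9 := congrArg (fun w : V => (x : Mat) *ᵥ w) h8
    simp only [mulVec_zero] at h9
    rw [hxx] at h9
    have := congrFun h9 (.inl i)
    rw [Pi.neg_apply, sg_ll, if_pos rfl] at this
    exact one_ne_zero (neg_eq_zero.1 this)
  exact xc_of_plane hA h2 hx h4 hv (hxx v) i

/-- the diagonal element with signs `δ` -/
def dB (δ : Fin m → Bool) : G := blk fun i => if δ i then -1 else 1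

theorem dB_mulVec_inl (δ : Fin m → Bool) (i : Fin m) : ((dB δ : G) : Mat) *ᵥ Pi.single (.inl i) 1 =
    (if δ i then (-1 : F) else 1) • Pi.single (.inl i) 1 := by
  unfold dB
  rw [blk_mulVec]
  ext (k | k)
  · rw [bf_inl, Pi.smul_apply, sg_ll, sg_lr]
    by_cases hk : k = i
    · subst hk
      by_cases h : δ k <;> simp [h, neg_apply]
    · simp [hk]
  · rw [bf_inr, Pi.smul_apply, sg_ll, sg_lr]
    by_cases hk : k = i
    · subst hk
      by_cases h : δ k <;> simp [h, neg_apply]
    · simp [hk]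

theorem dB_mulVec_inr (δ : Fin m → Bool) (i : Fin m) : ((dB δ : G) : Mat) *ᵥ Pi.single (.inr i) 1 =
    (if δ i then (-1 : F) else 1) • Pi.single (.inr i) 1 := by
  unfold dB
  rw [blk_mulVec]
  ext (k | k)
  · rw [bf_inl, Pi.smul_apply, sg_rl, sg_rr]
    by_cases hk : k = i
    · subst hk
      by_cases h : δ k <;> simp [h, neg_apply]
    · simp [hk]
  · rw [bf_inr, Pi.smul_apply, sg_rl, sg_rr]
    by_cases hk : k = i
    · subst hk
      by_cases h : δ k <;> simp [h, neg_apply]
    · simp [hk]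

theorem dB_hasPattern (δ : Fin m → Bool) : HasPattern ((dB δ : G) : Mat) δ := by
  refine ⟨fun i => Pi.single (.inl i) 1, fun i => Pi.single (.inr i) 1, ⟨fun i j => ?_, fun i j => ?_, fun i j => ?_⟩,
    fun i => ⟨?_, ?_⟩⟩
  · change f (Pi.single (.inl i) 1) (Pi.single (.inl j) 1) = 0
    rw [sympForm_single_inl_left, sg_lr, neg_zero]
  · change f (Pi.single (.inr i) 1) (Pi.single (.inr j) 1) = 0
    rw [sympForm_single_inr_left, sg_rl]
  · change f (Pi.single (.inr i) 1) (Pi.single (.inl j) 1) = _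
    rw [sympForm_single_inr_left, sg_ll]
  · change ((dB δ : G) : Mat) *ᵥ Pi.single (.inl i) 1 = _
    rw [dB_mulVec_inl]
    rfl
  · change ((dB δ : G) : Mat) *ᵥ Pi.single (.inr i) 1 = _
    rw [dB_mulVec_inr]
    rfl

theorem dB_mul (δ ε : Fin m → Bool) : (dB δ * dB ε : G) = dB fun i => xor (δ i) (ε i) := by
  unfold dB
  rw [← map_mul]
  congr 1
  funext i
  rw [Pi.mul_apply]
  rcases Bool.eq_false_or_eq_true (δ i) with h | h <;> rcases Bool.eq_false_or_eq_true (ε i) with h' | h' <;>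
    simp [h, h']

theorem dB_sq (δ : Fin m → Bool) : (dB δ * dB δ : G) = 1 := by
  rw [dB_mul]
  have : (fun i => xor (δ i) (δ i)) = fun _ : Fin m => false := by funext i; simp
  rw [this]
  unfold dB
  rw [← map_one blk]
  congr 1

theorem dB_comm (δ ε : Fin m → Bool) : (dB δ * dB ε : G) = dB ε * dB δ := by
  rw [dB_mul, dB_mul]
  congr 1
  funext i
  exact Bool.xor_comm _ _

theorem dB_perm (δ : Fin m → Bool) (σ : Equiv.Perm (Fin m)) : (pmh σ : G) * dB δ * (pmh σ : G)⁻¹ =
    dB fun i => δ (σ.symm i) := by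
  unfold dB
  rw [pmh_blk]

theorem t_eq (i : Fin m) : (blk (Pi.mulSingle i (-1)) : G) = dB fun k => decide (k = i) := by
  unfold dB
  congr 1
  funext k
  by_cases hk : k = i
  · subst hk
    rw [Pi.mulSingle_eq_same]
    simp
  · rw [Pi.mulSingle_eq_of_ne hk]
    simp [hk]

theorem xc_dB_mul (hA : IsStronglyClosed A (S : Subgroup H)) {δ ε : Fin m → Bool} (h1 : XC π A (dB δ))
    (h2 : XC π A (dB ε)) : XC π A (dB fun i => xor (δ i) (ε i)) := by
  rw [← dB_mul]
  exact XC.mul_comm' hA (k := 1) (l := 1) (by rw [pow_one, pow_two, dB_sq]) (by rw [pow_one, pow_two, dB_sq])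
    (dB_comm _ _) h1 h2

/-- **one involution -/
theorem xc_t (hA : IsStronglyClosed A (S : Subgroup H)) (h2 : (2 : F) ≠ 0) [Fintype F] (hm : 2 ≤ m)
    (hk : ∀ z : G, (∀ v : V, (z : Mat) *ᵥ v = v) ∨ (∀ v : V, (z : Mat) *ᵥ v = -v) → π z = 1)
    {x : G} (hx : XC π A x) (hx1 : π x ≠ 1) (hxx : x * x = 1) (i : Fin m) : XC π A (blk (Pi.mulSingle i (-1))) := by
  obtain ⟨δ, hδ⟩ := exists_hasPattern h2 x.2 (congrArg Subtype.val hxx)
  have hxδ : XC π A (dB δ) := hx.isConj (isConj_of_hasPattern hδ (dB_hasPattern δ))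
  have hπ : π (dB δ) ≠ 1 := by
    obtain ⟨g, hg⟩ := isConj_iff.1 (isConj_of_hasPattern hδ (dB_hasPattern δ))
    intro h
    rw [← hg, map_mul, map_mul, map_inv, conj_eq_one_iff] at h
    exact hx1 h
  -- not constant
  have e1 : ∃ i, δ i = true := by
    by_contra hcon
    push Not at hcon
    refine hπ (hk _ (Or.inl fun v => ?_))
    have : (dB δ : G) = 1 := by
      unfold dB
      rw [← map_one blk]
      congr 1
      funext i
      rw [if_neg (hcon i)]
      rfl
    rw [this]
    exact one_mulVec v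
  have e2 : ∃ j, δ j = false := by
    by_contra hcon
    push Not at hcon
    refine hπ (hk _ (Or.inr fun v => ?_))
    unfold dB
    rw [blk_mulVec]
    ext (k | k)
    · rw [bf_inl, if_pos (by simpa using hcon k)]
      simp [neg_apply]
    · rw [bf_inr, if_pos (by simpa using hcon k)]
      simp [neg_apply]
  obtain ⟨a, ha⟩ := e1
  obtain ⟨b, hb⟩ := e2
  have hab : a ≠ b := fun h => by rw [h, hb] at ha; exact Bool.noConfusion ha
  -- permuting
  have hperm : ∀ (ε : Fin m → Bool) (σ : Equiv.Perm (Fin m)), XC π A (dB ε) → XC π A (dB fun i => ε (σ.symm i)) := by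
    intro ε σ h
    rw [← dB_perm]
    exact h.cj _
  -- two planes
  have hD : XC π A (dB fun k => decide (k = a ∨ k = b)) := by
    have h3 := xc_dB_mul hA hxδ (hperm δ (Equiv.swap a b) hxδ)
    have h4 : (fun i => xor (δ i) (δ ((Equiv.swap a b).symm i))) = fun k => decide (k = a ∨ k = b) := by
      funext k
      rw [Equiv.symm_swap]
      by_cases hka : k = a
      · subst hka; rw [Equiv.swap_apply_left, ha, hb]; simp
      by_cases hkb : k = b
      · subst hkb; rw [Equiv.swap_apply_right, ha, hb]; simp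
      · rw [Equiv.swap_apply_of_ne_of_ne hka hkb]; simp [hka, hkb]
    rwa [h4] at h3
  have hpair : ∀ a' b' : Fin m, a' ≠ b' → XC π A (dB fun k => decide (k = a' ∨ k = b')) := by
    intro a' b' hab'
    obtain ⟨σ, hσ1, hσ2⟩ : ∃ σ : Equiv.Perm (Fin m), σ a = a' ∧ σ b = b' := by
      refine ⟨Equiv.swap (Equiv.swap a a' b) b' * Equiv.swap a a', ?_, ?_⟩
      · rw [Equiv.Perm.mul_apply, Equiv.swap_apply_left]
        refine Equiv.swap_apply_of_ne_of_ne (fun h => ?_) hab'
        have := (Equiv.swap a a').injective ((Equiv.swap_apply_left a a').trans h)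
        exact hab this
      · rw [Equiv.Perm.mul_apply, Equiv.swap_apply_left]
    have := hperm _ σ hD
    have h5 : (fun i => (fun k => decide (k = a ∨ k = b)) (σ.symm i)) = fun k => decide (k = a' ∨ k = b') := by
      funext k
      rw [← hσ1, ← hσ2]
      simp only [Equiv.symm_apply_eq]
    rwa [h5] at this
  -- it is enough to treat one plane
  have hone : ∀ j : Fin m, XC π A (blk (Pi.mulSingle j (-1))) → XC π A (blk (Pi.mulSingle i (-1))) := by
    intro j h
    have := h.cj (pmh (Equiv.swap j i))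
    rwa [pmh_mulSingle, Equiv.swap_apply_left] at this
  by_cases hm3 : m = 2
  · -- two planes: `x` is `-1` on one plane
    have hall : ∀ k, k = a ∨ k = b := by
      intro k
      by_contra hcon
      push Not at hcon
      have h3 : ({a, b, k} : Finset (Fin m)).card = 3 := by
        rw [Finset.card_eq_three]
        exact ⟨a, b, k, hab, hcon.1.symm, hcon.2.symm, rfl⟩
      have h4 := Finset.card_le_univ ({a, b, k} : Finset (Fin m))
      rw [h3, Fintype.card_fin, hm3] at h4
      omega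
    refine hone a ?_
    rw [t_eq]
    have : (fun k => decide (k = a)) = δ := by
      funext k
      rcases hall k with rfl | rfl
      · rw [ha]; simp
      · rw [hb]; simp [hab.symm]
    rw [this]
    exact hxδ
  -- three planes
  obtain ⟨c, hca, hcb⟩ : ∃ c : Fin m, c ≠ a ∧ c ≠ b := by
    by_contra hcon
    push Not at hcon
    have : (Finset.univ : Finset (Fin m)) ⊆ {a, b} := by
      intro k _
      rw [Finset.mem_insert, Finset.mem_singleton]
      by_cases hk : k = a
      · exact Or.inl hk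
      · exact Or.inr (hcon k hk)
    have h4 := Finset.card_le_card this
    rw [Finset.card_univ, Fintype.card_fin] at h4
    have h5 := Finset.card_le_two (a := a) (b := b)
    omega
  have hbc : XC π A (dB fun k => decide (k = b ∨ k = c)) := hpair b c hcb.symm
  have htc : ∀ k : Fin m, (dB fun l => decide (l = k) : G) = blk (Pi.mulSingle k (-1)) := fun k => (t_eq k).symm
  -- the swap times `-1` on the third plane
  have hsw : XC π A (pmh (Equiv.swap a b) * blk (Pi.mulSingle c (-1))) := by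
    have h3 := swap_conj h2 hab (g := Pi.mulSingle c (-1)) (Pi.mulSingle_eq_of_ne hca.symm _)
      (Pi.mulSingle_eq_of_ne hcb.symm _)
    have h4 : (blk (Pi.mulSingle b (-1) * Pi.mulSingle c (-1)) : G) = dB fun k => decide (k = b ∨ k = c) := by
      rw [map_mul, t_eq, t_eq, dB_mul]
      congr 1
      funext k
      by_cases hkb : k = b
      · subst hkb; simp [hcb.symm]
      · by_cases hkc : k = c
        · subst hkc; simp [hkb]
        · simp [hkb, hkc]
    rw [h4] at h3
    exact hbc.isConj h3.symm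
  -- the element with square `-1` on two planes
  have hP : IsPGroup 2 ↥(zpowers (-1 : SL)) := by
    rintro ⟨x, hx⟩
    obtain ⟨n, rfl⟩ := mem_zpowers_iff.1 hx
    refine ⟨1, Subtype.ext ?_⟩
    change ((-1 : SL) ^ n) ^ 2 ^ 1 = 1
    rw [pow_one, pow_two, ← (Commute.refl (-1 : SL)).mul_zpow, neg_mul_neg, one_mul, _root_.one_zpow]
  have hT : IsPGroup 2 ↥(zpowers (Equiv.swap a b)) := by
    rintro ⟨x, hx⟩
    obtain ⟨n, rfl⟩ := mem_zpowers_iff.1 hx
    refine ⟨1, Subtype.ext ?_⟩
    change ((Equiv.swap a b) ^ n) ^ 2 ^ 1 = 1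
    rw [pow_one, pow_two, ← (Commute.refl (Equiv.swap a b)).mul_zpow, Equiv.swap_mul_self, _root_.one_zpow]
  have hW := isPGroup_wr (m := m) hP hT
  have hy : XC π A (pmh (Equiv.swap a b) * blk (Pi.mulSingle b (-1))) := by
    have h3 : (pmh (Equiv.swap a b) * blk (Pi.mulSingle b (-1)) : G) =
        (pmh (Equiv.swap a b) * blk (Pi.mulSingle c (-1))) * (dB fun k => decide (k = b ∨ k = c)) := by
      have h4 : (dB fun k => decide (k = b ∨ k = c) : G) = blk (Pi.mulSingle c (-1)) * blk (Pi.mulSingle b (-1)) := by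
        rw [t_eq, t_eq, dB_mul]
        congr 1
        funext k
        by_cases hkb : k = b
        · subst hkb; simp [hcb.symm]
        · by_cases hkc : k = c
          · subst hkc; simp [hkb]
          · simp [hkb, hkc]
      rw [h4, mul_assoc, ← mul_assoc (blk (Pi.mulSingle c (-1)) : G) (blk (Pi.mulSingle c (-1))), t_sq, one_mul]
    rw [h3]
    refine XC.mul hA hW (mul_mem (pmh_mem (mem_zpowers _)) (single_mem (mem_zpowers _))) ?_ hsw hbc
    refine blk_mem fun k => ?_
    split_ifs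
    · exact mem_zpowers _
    · exact one_mem _
  obtain ⟨n, hn⟩ := hW ⟨pmh (Equiv.swap a b) * blk (Pi.mulSingle b (-1)),
    mul_mem (pmh_mem (mem_zpowers _)) (single_mem (mem_zpowers _))⟩
  have hn' : (pmh (Equiv.swap a b) * blk (Pi.mulSingle b (-1)) : G) ^ 2 ^ n = 1 := congrArg Subtype.val hn
  have hact : ∀ w : V, ((pmh (Equiv.swap a b) * blk (Pi.mulSingle b (-1)) : G) : Mat) *ᵥ w =
      pf (Equiv.swap a b) (w - (2 * w (.inl b)) • Pi.single (.inl b) 1 - (2 * w (.inr b)) • Pi.single (.inr b) 1) := by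
    intro w
    rw [coe_mul_mulVec, t_mulVec, pmh_mulVec]
  have hyv : ((pmh (Equiv.swap a b) * blk (Pi.mulSingle b (-1)) : G) : Mat) *ᵥ
      (Pi.single (.inl a) 1 + Pi.single (.inr b) 1) = Pi.single (.inl b) 1 - Pi.single (.inr a) 1 := by
    rw [hact]
    ext (k | k)
    · rw [pf_inl, Equiv.symm_swap]
      simp only [Pi.sub_apply, Pi.add_apply, Pi.smul_apply, sg_ll, sg_lr, sg_rl, sg_rr, smul_eq_mul]
      by_cases hka : k = a
      · subst hka
        simp [hab, hab.symm]
      by_cases hkb : k = b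
      · subst hkb
        simp [hab, hab.symm]
      · rw [Equiv.swap_apply_of_ne_of_ne hka hkb]
        simp [hab, hab.symm, hka, hkb]
    · rw [pf_inr, Equiv.symm_swap]
      simp only [Pi.sub_apply, Pi.add_apply, Pi.smul_apply, sg_ll, sg_lr, sg_rl, sg_rr, smul_eq_mul]
      by_cases hka : k = a
      · subst hka
        simp [hab, hab.symm]
        ring
      by_cases hkb : k = b
      · subst hkb
        simp [hab, hab.symm]
      · rw [Equiv.swap_apply_of_ne_of_ne hka hkb]
        simp [hab, hab.symm, hka, hkb]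
  have hyyv : ((pmh (Equiv.swap a b) * blk (Pi.mulSingle b (-1)) : G) : Mat) *ᵥ
      (Pi.single (.inl b) 1 - Pi.single (.inr a) 1) = -(Pi.single (.inl a) 1 + Pi.single (.inr b) 1) := by
    rw [hact]
    ext (k | k)
    · rw [pf_inl, Equiv.symm_swap]
      simp only [Pi.sub_apply, Pi.add_apply, Pi.neg_apply, Pi.smul_apply, sg_ll, sg_lr, sg_rl, sg_rr, smul_eq_mul]
      by_cases hka : k = a
      · subst hka
        simp [hab, hab.symm]
        ring
      by_cases hkb : k = b
      · subst hkb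
        simp [hab, hab.symm]
      · rw [Equiv.swap_apply_of_ne_of_ne hka hkb]
        simp [hab, hab.symm, hka, hkb]
    · rw [pf_inr, Equiv.symm_swap]
      simp only [Pi.sub_apply, Pi.add_apply, Pi.neg_apply, Pi.smul_apply, sg_ll, sg_lr, sg_rl, sg_rr, smul_eq_mul]
      by_cases hka : k = a
      · subst hka
        simp [hab, hab.symm]
      by_cases hkb : k = b
      · subst hkb
        simp [hab, hab.symm]
      · rw [Equiv.swap_apply_of_ne_of_ne hka hkb]
        simp [hab, hab.symm, hka, hkb]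
  refine xc_of_plane hA h2 hy hn' (v := Pi.single (.inl a) 1 + Pi.single (.inr b) 1) ?_ ?_ i
  · rw [hyv, sympForm_add_left, sympForm_single_inl_left, sympForm_single_inr_left]
    simp only [Pi.sub_apply, sg_ll, sg_lr, sg_rl, sg_rr, if_true]
    norm_num
    exact h2
  · rw [hyv, hyyv]

end xc

end Cfsg.Agent.ClosedTwo.Psp

end

-- merged: Cfsg.Agent.ClosedTwo.PspEnd
section

/-!
# S1252 for `PSp_2m(q)`, `q` odd, `m ≥ 2` (helper5)

`closedRow : ClosedRow (PSp m F)`.
-/

set_option autoImplicit false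
set_option linter.unusedSectionVars false

namespace Cfsg.Agent.ClosedTwo.Psp

open Matrix Subgroup Cfsg Cfsg.Agent.ClassicalGeometry.SympBasic Cfsg.Agent.HoltZ.Psp Cfsg.Agent.ClosedTwo.XCover
open Cfsg.Agent.ClosedTwo.Elem

variable {F : Type*} [Field F] {m : ℕ}

local notation "V" => (Fin m ⊕ Fin m → F)
local notation "G" => Matrix.symplecticGroup (Fin m) F
local notation "f" => sympForm m F
local notation "Mat" => Matrix (Fin m ⊕ Fin m) (Fin m ⊕ Fin m) F
local notation "SL" => Matrix.SpecialLinearGroup (Fin 2) F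

/-! ### `SL_2(q)` -/

/-- all the elements with square `-1` are conjugate in `SL_2(q)` -/
theorem sl_conj [Fintype F] (h2 : (2 : F) ≠ 0) {c : SL} (hc : c * c = -1) :
    ∃ g : SL, g * (qa : SL) * g⁻¹ = c := by
  have hd := c.2
  rw [det_fin_two] at hd
  have e0 := congrArg (fun x : SL => (x : Matrix (Fin 2) (Fin 2) F)) hc
  simp only [Matrix.SpecialLinearGroup.coe_mul, Matrix.SpecialLinearGroup.coe_neg, Matrix.SpecialLinearGroup.coe_one] at e0
  have e00 := congrFun (congrFun e0 0) 0
  have e01 := congrFun (congrFun e0 0) 1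
  have e10 := congrFun (congrFun e0 1) 0
  have e11 := congrFun (congrFun e0 1) 1
  simp only [Matrix.mul_apply, Fin.sum_univ_two, Matrix.neg_apply, Matrix.one_apply_eq, ne_eq, zero_ne_one,
    not_false_eq_true, Matrix.one_apply_ne, one_ne_zero, neg_zero] at e00 e01 e10 e11
  set a := (c : Matrix (Fin 2) (Fin 2) F) 0 0 with ha
  set b := (c : Matrix (Fin 2) (Fin 2) F) 0 1 with hb
  set c' := (c : Matrix (Fin 2) (Fin 2) F) 1 0 with hc'
  set d := (c : Matrix (Fin 2) (Fin 2) F) 1 1 with hd'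
  have htr : d = -a := by
    by_contra hne
    have h3 : a + d ≠ 0 := fun h => hne (by linear_combination h)
    have hb0 : b = 0 := by
      have : (a + d) * b = 0 := by linear_combination e01
      exact (mul_eq_zero.1 this).resolve_left h3
    have hc0 : c' = 0 := by
      have : (a + d) * c' = 0 := by linear_combination e10
      exact (mul_eq_zero.1 this).resolve_left h3
    rw [hb0, hc0] at e00 e11
    rw [hb0, hc0] at hd
    have h4 : (a - d) * (a + d) = 0 := by linear_combination e00 - e11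
    have h5 : a = d := by
      have := (mul_eq_zero.1 h4).resolve_right h3
      linear_combination this
    rw [← h5] at hd
    exact h2 (by linear_combination e00 - hd)
  -- the vector
  obtain ⟨p, q, hpq⟩ : ∃ p q : F, -c' * p ^ 2 + 2 * a * p * q + b * q ^ 2 = 1 := by
    have hdet : a ^ 2 + b * c' = -1 := by linear_combination e00
    by_cases h3 : c' = 0
    · by_cases h4 : b = 0
      · have ha0 : a ≠ 0 := by
          rintro h5
          rw [h3, h4, h5] at hdet
          simp at hdet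
        refine ⟨1, (2 * a)⁻¹, ?_⟩
        rw [h3, h4]
        have : (2 * a) ≠ 0 := mul_ne_zero h2 ha0
        field_simp
        ring
      · obtain ⟨s, t, hst⟩ := Cfsg.Agent.HoltZ.exists_sq_add_sq h2 b
        refine ⟨t, (s - a * t) / b, ?_⟩
        field_simp
        linear_combination hst + (-t ^ 2) * hdet
    · obtain ⟨s, t, hst⟩ := Cfsg.Agent.HoltZ.exists_sq_add_sq h2 (-c')
      refine ⟨(s + a * t) / c', t, ?_⟩
      field_simp
      linear_combination -hst + t ^ 2 * hdet
  have hdet : (!![p, -(a * p + b * q); q, -(c' * p - a * q)] : Matrix (Fin 2) (Fin 2) F).det = 1 := by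
    rw [det_fin_two_of]
    linear_combination hpq
  obtain ⟨g, hg⟩ : ∃ g : SL, (g : Matrix (Fin 2) (Fin 2) F) = !![p, -(a * p + b * q); q, -(c' * p - a * q)] :=
    ⟨⟨_, hdet⟩, rfl⟩
  refine ⟨g, ?_⟩
  rw [mul_inv_eq_iff_eq_mul]
  apply Subtype.ext
  have hcm : (c : Matrix (Fin 2) (Fin 2) F) = !![a, b; c', d] := by
    ext i j
    fin_cases i <;> fin_cases j <;> rfl
  change (g : Matrix (Fin 2) (Fin 2) F) * !![0, 1; -1, 0] = (c : Matrix (Fin 2) (Fin 2) F) * (g : Matrix (Fin 2) (Fin 2) F)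
  rw [hcm, hg, htr]
  have hdt : a ^ 2 + b * c' = -1 := by linear_combination e00
  ext i j
  (revert i j; simp only [Matrix.mul_apply, Fin.sum_univ_two, _root_.Fin.forall_fin_succ, _root_.neg_add_rev, _root_.neg_sub, _root_.Matrix.of_apply, _root_.Matrix.cons_val', _root_.Matrix.cons_val_fin_one, Fin.isValue, _root_.Matrix.cons_val_zero, _root_.Matrix.cons_val_one, _root_.MulZeroClass.mul_zero, _root_.mul_neg, _root_.mul_one, _root_.zero_add, _root_.Matrix.cons_val_succ, _root_.add_zero, _root_.forall_const, _root_.neg_neg, _root_.true_and, _root_.neg_mul]) <;> (repeat' with_reducible apply And.intro) <;>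
    first | ring1 | linear_combination p * hdt | linear_combination (-p) * hdt | linear_combination q * hdt |
      linear_combination (-q) * hdt

theorem sl_conj' [Fintype F] (h2 : (2 : F) ≠ 0) {c d : SL} (hc : c * c = -1) (hd : d * d = -1) :
    ∃ g : SL, g * c * g⁻¹ = d := by
  obtain ⟨g, hg⟩ := sl_conj h2 hc
  obtain ⟨h, hh⟩ := sl_conj h2 hd
  refine ⟨h * g⁻¹, ?_⟩
  rw [← hg, ← hh]
  group

/-- a Sylow 2-subgroup of `SL_2(q)` is generated by its elements with square `-1` -/
theorem sylow_gen [Fintype F] (hF : Odd (Fintype.card F)) (P : Sylow 2 SL) {y : SL} (hy : y ∈ P) :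
    y ∈ closure {u : SL | u ∈ P ∧ u * u = -1} := by
  obtain ⟨k, hk, ⟨e⟩⟩ := Cfsg.Agent.S0261.result hF P
  set n := 2 ^ k with hn
  have hn0 : n ≠ 0 := by rw [hn]; exact pow_ne_zero _ two_ne_zero
  have : NeZero n := ⟨hn0⟩
  -- the elements `xa i`
  have hxa : ∀ i : ZMod (2 * n), ((e.symm (QuaternionGroup.xa i) : P) : SL) ∈ {u : SL | u ∈ P ∧ u * u = -1} := by
    intro i
    refine ⟨(e.symm (QuaternionGroup.xa i)).2, ?_⟩
    set u : SL := ((e.symm (QuaternionGroup.xa i) : P) : SL) with hu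
    have ho : orderOf u = 4 := by
      rw [hu, Subgroup.orderOf_coe, MulEquiv.orderOf_eq, QuaternionGroup.orderOf_xa]
    have h1 : u * u ≠ 1 := by
      intro h
      have h3 := orderOf_dvd_of_pow_eq_one (show u ^ 2 = 1 by rw [pow_two, h])
      rw [ho] at h3
      omega
    have h2 : (u * u) * (u * u) = 1 := by
      have h3 := pow_orderOf_eq_one u
      rw [ho] at h3
      rw [← h3, pow_succ, pow_succ, pow_two, mul_assoc (u * u) u u]
    exact Subtype.ext (Cfsg.Agent.S0268.result hF (u * u) h1 h2)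
  have key : ∀ z : QuaternionGroup n, ((e.symm z : P) : SL) ∈ closure {u : SL | u ∈ P ∧ u * u = -1} := by
    rintro (i | i)
    · have h1 : (QuaternionGroup.a i : QuaternionGroup n) =
          QuaternionGroup.xa 0 * QuaternionGroup.xa (i - (n : ZMod (2 * n))) := by
        rw [QuaternionGroup.xa_mul_xa]
        congr 1
        ring
      rw [h1, map_mul, Subgroup.coe_mul]
      exact mul_mem (subset_closure (hxa _)) (subset_closure (hxa _))
    · exact subset_closure (hxa i)
  have := key (e ⟨y, hy⟩)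
  rwa [e.symm_apply_apply] at this

/-! ### The wreath product -/

section xc

variable {H : Type*} [Group H] [Finite H] {π : Matrix.symplecticGroup (Fin m) F →* H} {S : Sylow 2 H} {A : Subgroup H}

theorem isPGroup_zpowers {K : Type*} [Group K] {t : K} (ht : t * t = 1) : IsPGroup 2 ↥(zpowers t) := by
  rintro ⟨x, hx⟩
  obtain ⟨n, rfl⟩ := mem_zpowers_iff.1 hx
  refine ⟨1, Subtype.ext ?_⟩
  change (t ^ n) ^ 2 ^ 1 = 1
  rw [pow_one, pow_two, ← (Commute.refl t).mul_zpow, ht, _root_.one_zpow]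

/-- the swap of two planes -/
theorem xc_swap (h2 : (2 : F) ≠ 0) (ht : ∀ i, XC π A (blk (Pi.mulSingle i (-1)))) {i j : Fin m} (hij : i ≠ j) :
    XC π A (pmh (Equiv.swap i j)) := by
  have h := swap_conj h2 hij (g := 1) rfl rfl
  rw [map_one, mul_one, mul_one] at h
  exact (ht j).isConj h.symm

/-- all involutive permutations of the planes -/
theorem xc_invol (hA : IsStronglyClosed A (S : Subgroup H)) (h2 : (2 : F) ≠ 0)
    (ht : ∀ i, XC π A (blk (Pi.mulSingle i (-1)))) :
    ∀ (n : ℕ) (σ : Equiv.Perm (Fin m)), σ.support.card ≤ n → σ * σ = 1 → XC π A (pmh σ) := by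
  intro n
  induction n with
  | zero =>
    intro σ hn _
    have : σ = 1 := Equiv.Perm.card_support_eq_zero.1 (by omega)
    rw [this, map_one]
    exact XC.one
  | succ n ih =>
    intro σ hn hσ
    by_cases h1 : σ = 1
    · rw [h1, map_one]
      exact XC.one
    obtain ⟨i, hi⟩ : ∃ i, σ i ≠ i := by
      by_contra hcon
      push Not at hcon
      exact h1 (Equiv.ext hcon)
    have hσσ : ∀ y, σ (σ y) = y := fun y => congrArg (fun g : Equiv.Perm (Fin m) => g y) hσ
    have hcomm : σ * Equiv.swap i (σ i) = Equiv.swap i (σ i) * σ := by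
      have := Equiv.mul_swap_eq_swap_mul σ i (σ i)
      rw [this, hσσ, Equiv.swap_comm]
    have hsw : Equiv.swap i (σ i) * Equiv.swap i (σ i) = 1 := Equiv.swap_mul_self _ _
    have hττ : (σ * Equiv.swap i (σ i)) * (σ * Equiv.swap i (σ i)) = 1 := by
      calc σ * Equiv.swap i (σ i) * (σ * Equiv.swap i (σ i))
          = σ * Equiv.swap i (σ i) * (Equiv.swap i (σ i) * σ) := congrArg (fun z => σ * Equiv.swap i (σ i) * z) hcomm
        _ = σ * (Equiv.swap i (σ i) * Equiv.swap i (σ i)) * σ := by simp only [mul_assoc]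
        _ = 1 := by rw [hsw, mul_one, hσ]
    set τ := σ * Equiv.swap i (σ i) with hτ
    have hτi : τ i = i := by rw [hτ, Equiv.Perm.mul_apply, Equiv.swap_apply_left, hσσ]
    have hsub : τ.support ⊆ σ.support := by
      intro y hy
      rw [Equiv.Perm.mem_support] at hy ⊢
      intro h3
      apply hy
      by_cases hyi : y = i
      · rw [hyi]; exact hτi
      · have hyi' : y ≠ σ i := by
          intro h4
          rw [h4, hσσ] at h3
          exact hi h3.symm
        rw [hτ, Equiv.Perm.mul_apply, Equiv.swap_apply_of_ne_of_ne hyi hyi', h3]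
    have hlt : τ.support.card < σ.support.card := by
      refine Finset.card_lt_card ⟨hsub, fun hle => ?_⟩
      have := hle (Equiv.Perm.mem_support.2 hi)
      rw [Equiv.Perm.mem_support] at this
      exact this hτi
    have h3 := ih τ (by omega) hττ
    have h4 : XC π A (pmh (Equiv.swap i (σ i))) := xc_swap h2 ht hi.symm
    have h5 : (pmh σ : G) = pmh τ * pmh (Equiv.swap i (σ i)) := by
      rw [← map_mul, hτ, mul_assoc, hsw, mul_one]
    rw [h5]
    refine XC.mul_comm' hA (k := 1) (l := 1) ?_ ?_ ?_ h3 h4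
    · rw [pow_one, pow_two, ← map_mul, hττ, map_one]
    · rw [pow_one, pow_two, ← map_mul, hsw, map_one]
    · rw [← map_mul, ← map_mul]
      congr 1
      rw [hτ]
      rw [mul_assoc, hsw, mul_one, ← mul_assoc, ← hcomm, mul_assoc, hsw, mul_one]

/-- all 2-elements among the permutations of the planes -/
theorem xc_perm (hA : IsStronglyClosed A (S : Subgroup H)) (h2 : (2 : F) ≠ 0)
    (ht : ∀ i, XC π A (blk (Pi.mulSingle i (-1)))) {σ : Equiv.Perm (Fin m)} {k : ℕ} (hσ : σ ^ 2 ^ k = 1) :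
    XC π A (pmh σ) := by
  obtain ⟨t, htt, hinv, -⟩ := Cfsg.Agent.ClosedTwo.Alt.exists_inverting σ
  have hti : t⁻¹ = t := inv_eq_of_mul_eq_one_right htt
  have hu : (t * σ) * (t * σ) = 1 := by
    have : t * σ * (t * σ) = (t * σ * t⁻¹) * σ := by rw [hti]; simp only [mul_assoc]
    rw [this, hinv, inv_mul_cancel]
  have h1 := xc_invol hA h2 ht _ t le_rfl htt
  have h3 := xc_invol hA h2 ht _ (t * σ) le_rfl hu
  have e : t * (t * σ) = σ := by rw [← mul_assoc, htt, one_mul]
  have h4 := Cl.mul_invol hA (t := π (pmh t)) (u := π (pmh (t * σ))) (k := k)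
    (by rw [← map_mul, ← map_mul, htt, map_one, map_one]) (by rw [← map_mul, ← map_mul, hu, map_one, map_one])
    (by rw [← map_mul, ← map_mul, e, ← map_pow, ← map_pow, hσ, map_one, map_one]) h1 h3
  rw [← map_mul, ← map_mul, e] at h4
  exact h4

/-- an element with square `-1` on one plane and `1` on the others -/
theorem xc_four (hA : IsStronglyClosed A (S : Subgroup H)) [Fintype F] (h2 : (2 : F) ≠ 0) (hm : 2 ≤ m)
    (ht : ∀ i, XC π A (blk (Pi.mulSingle i (-1)))) (i : Fin m) {c : SL} (hc : c * c = -1) :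
    XC π A (blk (Pi.mulSingle i c)) := by
  obtain ⟨j, hj⟩ : ∃ j : Fin m, j ≠ i := by
    have : Nontrivial (Fin m) := Fin.nontrivial_iff_two_le.2 hm
    exact exists_ne i
  obtain ⟨x, y, hxy⟩ : ∃ x y : F, x ^ 2 + y ^ 2 = -1 := Cfsg.Agent.HoltZ.exists_sq_add_sq h2 (-1)
  obtain ⟨q4, q2, q1⟩ := quat_rel hxy
  set a : SL := qa with ha
  set b : SL := qb hxy with hb
  have ha2 : a * a = -1 := by
    rw [ha]
    apply Subtype.ext
    change (!![0, 1; -1, 0] : Matrix (Fin 2) (Fin 2) F) * !![0, 1; -1, 0] = -1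
    ext i j
    (revert i j; simp only [_root_.Fin.forall_fin_succ, _root_.Matrix.cons_mul, _root_.Nat.succ_eq_add_one, Nat.reduceAdd, _root_.Matrix.vecMul_cons, _root_.Matrix.head_cons, _root_.zero_smul, _root_.Matrix.tail_cons, _root_.one_smul, _root_.Matrix.empty_vecMul, _root_.add_zero, _root_.zero_add, _root_.neg_smul, _root_.Matrix.neg_cons, _root_.neg_zero, _root_.Matrix.neg_empty, _root_.Matrix.empty_mul, _root_.Equiv.symm_apply_apply, _root_.Matrix.of_apply, _root_.Matrix.cons_val', _root_.Matrix.cons_val_fin_one, _root_.Matrix.neg_apply, Fin.isValue, _root_.Matrix.cons_val_zero, _root_.Matrix.cons_val_succ, _root_.IsEmpty.forall_iff, _root_.and_true, _root_.Matrix.one_apply_eq, _root_.Fin.succ_zero_eq_one, _root_.ne_eq, _root_.zero_ne_one, _root_.not_false_eq_true, _root_.Matrix.one_apply_ne, _root_.and_self, _root_.Fin.succ_ne_zero, _root_.neg_inj, _root_.true_and])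
  have hb2 : b * b = -1 := by rw [← pow_two, q2, pow_two, ha2]
  have hai : a⁻¹ * a⁻¹ = -1 := by
    rw [← _root_.mul_inv_rev, ha2]
    exact inv_eq_of_mul_eq_one_right (by rw [neg_mul_neg, one_mul])
  have hab : (a * b) * (a * b) = -1 := by
    have h3 : b * a * b = a⁻¹ * (b * b) := by rw [q1, mul_assoc]
    calc (a * b) * (a * b) = a * (b * a * b) := by simp only [mul_assoc]
      _ = b * b := by rw [h3, mul_inv_cancel_left]
      _ = -1 := hb2
  have hQ : IsPGroup 2 ↥(closure ({a, b} : Set SL)) := Cfsg.Agent.HoltZ.isPGroup_quat q4 q2 q1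
  have haQ : a ∈ closure ({a, b} : Set SL) := subset_closure (Set.mem_insert _ _)
  have hbQ : b ∈ closure ({a, b} : Set SL) := subset_closure (Set.mem_insert_of_mem _ rfl)
  have hW := isPGroup_wr (m := m) hQ (isPGroup_zpowers (Equiv.swap_mul_self i j))
  have hs : XC π A (pmh (Equiv.swap i j)) := xc_swap h2 ht hj.symm
  -- the pair `(a, a⁻¹)`
  have h3 : XC π A (blk (Pi.mulSingle j a) * blk (Pi.mulSingle i a⁻¹)) := by
    have e : (blk (Pi.mulSingle j a) * blk (Pi.mulSingle i a⁻¹) : G) =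
        pmh (Equiv.swap i j) * (blk (Pi.mulSingle i a) * pmh (Equiv.swap i j) * (blk (Pi.mulSingle i a))⁻¹) := by
      have e1 := pmh_mulSingle (m := m) (Equiv.swap i j) i a
      rw [Equiv.swap_apply_left] at e1
      have e2 : (pmh (Equiv.swap i j) : G)⁻¹ = pmh (Equiv.swap i j) := by rw [← map_inv, Equiv.swap_inv]
      rw [← e1, e2, Pi.mulSingle_inv, map_inv]
      simp only [mul_assoc]
    rw [e]
    refine XC.mul hA hW (pmh_mem (mem_zpowers _)) (mul_mem (mul_mem (single_mem haQ) (pmh_mem (mem_zpowers _)))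
      (inv_mem (single_mem haQ))) hs (hs.cj _)
  -- the pair `(a, b)`
  obtain ⟨g, hg⟩ := sl_conj' h2 hai hb2
  have h4 : XC π A (blk (Pi.mulSingle j a) * blk (Pi.mulSingle i b)) := by
    have h5 := h3.cj (blk (Pi.mulSingle i g))
    have e : (blk (Pi.mulSingle i g) * (blk (Pi.mulSingle j a) * blk (Pi.mulSingle i a⁻¹)) *
        (blk (Pi.mulSingle i g))⁻¹ : G) = blk (Pi.mulSingle j a) * blk (Pi.mulSingle i b) := by
      rw [← map_mul, ← map_mul, ← map_mul, ← map_inv, ← map_mul]
      congr 1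
      funext k
      simp only [Pi.mul_apply, Pi.inv_apply]
      by_cases hki : k = i
      · subst hki
        rw [Pi.mulSingle_eq_same, Pi.mulSingle_eq_of_ne hj.symm, Pi.mulSingle_eq_same, Pi.mulSingle_eq_same, one_mul,
          one_mul, hg]
      · rw [Pi.mulSingle_eq_of_ne hki, Pi.mulSingle_eq_of_ne hki, Pi.mulSingle_eq_of_ne hki]
        group
    rwa [e] at h5
  have h5 : XC π A (blk (Pi.mulSingle i (a * b))) := by
    have e : (blk (Pi.mulSingle i (a * b)) : G) =
        (blk (Pi.mulSingle j a) * blk (Pi.mulSingle i a⁻¹))⁻¹ * (blk (Pi.mulSingle j a) * blk (Pi.mulSingle i b)) := by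
      rw [← map_mul, ← map_mul, ← map_inv, ← map_mul]
      congr 1
      funext k
      simp only [Pi.mul_apply, Pi.inv_apply]
      by_cases hki : k = i
      · subst hki
        rw [Pi.mulSingle_eq_same, Pi.mulSingle_eq_of_ne hj.symm, Pi.mulSingle_eq_same, Pi.mulSingle_eq_same, one_mul,
          one_mul, inv_inv]
      · rw [Pi.mulSingle_eq_of_ne hki, Pi.mulSingle_eq_of_ne hki, Pi.mulSingle_eq_of_ne hki]
        group
    rw [e]
    exact XC.mul hA hW (inv_mem (mul_mem (single_mem haQ) (single_mem (inv_mem haQ))))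
      (mul_mem (single_mem haQ) (single_mem hbQ)) h3.inv h4
  obtain ⟨w, hw⟩ := sl_conj' h2 hab hc
  have h6 := h5.cj (blk (Pi.mulSingle i w))
  rwa [← map_inv, ← Pi.mulSingle_inv, ← map_mul, ← map_mul, ← Pi.mulSingle_mul, ← Pi.mulSingle_mul, hw] at h6

/-- **everything in the wreath product** -/
theorem xc_wr (hA : IsStronglyClosed A (S : Subgroup H)) [Fintype F] (hF : Odd (Fintype.card F)) (hm : 2 ≤ m)
    (ht : ∀ i, XC π A (blk (Pi.mulSingle i (-1)))) (P : Sylow 2 SL) (T : Sylow 2 (Equiv.Perm (Fin m))) :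
    ∀ x ∈ Wr (P : Subgroup SL) (T : Subgroup (Equiv.Perm (Fin m))), XC π A x := by
  classical
  have h2 : (2 : F) ≠ 0 := Cfsg.Agent.ClassicalGeometry.SympInvolutions.two_ne_zero_of_odd (Nat.odd_iff.1 hF)
  have hW : IsPGroup 2 ↥(Wr (P : Subgroup SL) (T : Subgroup (Equiv.Perm (Fin m)))) := isPGroup_wr P.2 T.2
  have hle : Wr (P : Subgroup SL) (T : Subgroup (Equiv.Perm (Fin m))) ≤ sub hA π hW := by
    refine sup_le ?_ ?_
    · rw [map_le_iff_le_comap, Subgroup.pi_le_iff]
      intro i
      rintro _ ⟨y, hy, rfl⟩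
      change blk (Pi.mulSingle i y) ∈ sub hA π hW
      have hcl := sylow_gen hF P hy
      have : closure {u : SL | u ∈ P ∧ u * u = -1} ≤
          (sub hA π hW).comap (blk.comp (MonoidHom.mulSingle (fun _ : Fin m => SL) i)) := by
        rw [closure_le]
        rintro u ⟨huP, hu⟩
        exact ⟨single_mem huP, xc_four hA h2 hm ht i hu⟩
      exact this hcl
    · rintro _ ⟨σ, hσ, rfl⟩
      refine ⟨pmh_mem hσ, ?_⟩
      obtain ⟨k, hk⟩ := T.2 ⟨σ, hσ⟩
      exact xc_perm hA h2 ht (congrArg Subtype.val hk)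
  exact fun x hx => (hle hx).2

end xc

end Cfsg.Agent.ClosedTwo.Psp

end
end
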