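import Cfsg.Agent.ClosedTwo.Elem
import Cfsg.Agent.HoltZ.PspBasic
set_option linter.all false

-- merged: Cfsg.Agent.ClosedTwo.XCover
section

/-!
# The calculus of strongly closed 2-subgroups in a covering group (helper5, S1252)

`π : G →* H` surjective, `A` strongly closed in the Sylow 2-subgroup `S` of `H`. `XC π A x` : the image of `x` is
conjugate to an element of `A`.
-/

set_option autoImplicit false

namespace Cfsg.Agent.ClosedTwo.XCover

open Subgroup Cfsg Cfsg.Agent.ClosedTwo.Elem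

variable {G H : Type*} [Group G] [Group H] {π : G →* H} {A : Subgroup H}

/-- the image of `x` is conjugate to an element of `A` -/
def XC (π : G →* H) (A : Subgroup H) (x : G) : Prop := Cl A (π x)

theorem XC.conj (hπ : Function.Surjective π) {x : G} (h : XC π A x) (g : G) : XC π A (g * x * g⁻¹) := by
  have _ := hπ
  have := Cl.conj h (π g)
  rwa [← map_inv, ← map_mul, ← map_mul] at this

theorem XC.of_conj {x g : G} (h : XC π A (g * x * g⁻¹)) : XC π A x := by
  have h1 : Cl A (π g * π x * (π g)⁻¹) := by rw [← map_inv, ← map_mul, ← map_mul]; exact h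
  exact h1.of_conj

theorem XC.cj {x : G} (h : XC π A x) (g : G) : XC π A (g * x * g⁻¹) := by
  have := Cl.conj h (π g)
  rwa [← map_inv, ← map_mul, ← map_mul] at this

theorem XC.isConj {x y : G} (h : XC π A x) (hxy : IsConj x y) : XC π A y := by
  obtain ⟨g, hg⟩ := isConj_iff.1 hxy
  rw [← hg]
  exact h.cj g

theorem XC.inv {x : G} (h : XC π A x) : XC π A x⁻¹ := by
  have := Cl.inv h
  rwa [← map_inv] at this

theorem XC.pow {x : G} (h : XC π A x) (n : ℕ) : XC π A (x ^ n) := by
  have := Cl.pow h n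
  rwa [← map_pow] at this

theorem XC.one : XC π A 1 := by
  have := cl_one (A := A)
  rwa [← map_one π] at this

/-- multiplication by elements of the kernel -/
theorem XC.ker_mul {x z : G} (hz : π z = 1) (h : XC π A x) : XC π A (z * x) := by
  unfold XC
  rw [map_mul, hz, one_mul]
  exact h

theorem XC.mul_ker {x z : G} (hz : π z = 1) (h : XC π A x) : XC π A (x * z) := by
  unfold XC
  rw [map_mul, hz, mul_one]
  exact h

theorem XC.of_ker {z : G} (hz : π z = 1) : XC π A z := by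
  have := XC.ker_mul hz (XC.one (π := π) (A := A))
  rwa [mul_one] at this

variable [Finite H] {S : Sylow 2 H}

/-- **Products inside a 2-subgroup.** -/
theorem XC.mul (hA : IsStronglyClosed A (S : Subgroup H)) {P : Subgroup G} (hP : IsPGroup 2 P) {x y : G}
    (hxP : x ∈ P) (hyP : y ∈ P) (hx : XC π A x) (hy : XC π A y) : XC π A (x * y) := by
  have h2 : Fact (Nat.Prime 2) := ⟨Nat.prime_two⟩
  unfold XC
  rw [map_mul]
  exact Cl.mul hA (hP.map π) (mem_map_of_mem _ hxP) (mem_map_of_mem _ hyP) hx hy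

/-- closure inside a 2-subgroup -/
theorem XC.closure (hA : IsStronglyClosed A (S : Subgroup H)) {P : Subgroup G} (hP : IsPGroup 2 P) {Y : Set G}
    (hY : ∀ x ∈ Y, x ∈ P ∧ XC π A x) {y : G} (hy : y ∈ Subgroup.closure Y) : XC π A y := by
  have h2 : Fact (Nat.Prime 2) := ⟨Nat.prime_two⟩
  have hle : Subgroup.closure Y ≤ P := (closure_le _).2 fun x hx => (hY x hx).1
  induction hy using closure_induction with
  | mem x hx => exact (hY x hx).2
  | one => exact XC.one
  | mul x y hx hy h1 h2 => exact XC.mul hA hP (hle hx) (hle hy) h1 h2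
  | inv x _ h => exact h.inv

/-- The elements of a 2-subgroup with image conjugate into `A` form a subgroup. -/
def sub (hA : IsStronglyClosed A (S : Subgroup H)) (π : G →* H) {P : Subgroup G} (hP : IsPGroup 2 P) : Subgroup G where
  carrier := {x | x ∈ P ∧ XC π A x}
  mul_mem' := fun ha hb => ⟨P.mul_mem ha.1 hb.1, XC.mul hA hP ha.1 hb.1 ha.2 hb.2⟩
  one_mem' := ⟨P.one_mem, XC.one⟩
  inv_mem' := fun ha => ⟨P.inv_mem ha.1, ha.2.inv⟩

theorem mem_sub (hA : IsStronglyClosed A (S : Subgroup H)) {P : Subgroup G} (hP : IsPGroup 2 P) {x : G} :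
    x ∈ sub hA π hP ↔ x ∈ P ∧ XC π A x := Iff.rfl

/-- two commuting elements of 2-power order -/
theorem XC.mul_comm' (hA : IsStronglyClosed A (S : Subgroup H)) {x y : G} {k l : ℕ} (hx : x ^ 2 ^ k = 1)
    (hy : y ^ 2 ^ l = 1) (hxy : x * y = y * x) (h1 : XC π A x) (h2 : XC π A y) : XC π A (x * y) := by
  have h2' : Fact (Nat.Prime 2) := ⟨Nat.prime_two⟩
  have hz : ∀ (y : G) (m : ℕ), y ^ 2 ^ m = 1 → IsPGroup 2 ↥(zpowers y) := by
    rintro y m hy ⟨a, ha⟩
    obtain ⟨n, rfl⟩ := mem_zpowers_iff.1 ha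
    refine ⟨m, Subtype.ext ?_⟩
    change (y ^ n) ^ 2 ^ m = 1
    rw [← zpow_natCast, ← zpow_mul, mul_comm, zpow_mul, zpow_natCast, hy, one_zpow]
  have hP : IsPGroup 2 ↥(zpowers x ⊔ zpowers y : Subgroup G) := by
    refine IsPGroup.to_sup_of_normal_right' (hz x k hx) (hz y l hy) ?_
    rw [zpowers_le, mem_normalizer_iff]
    have hc : ∀ a ∈ zpowers y, x * a * x⁻¹ = a := by
      intro a ha
      obtain ⟨n, rfl⟩ := mem_zpowers_iff.1 ha
      have hcomm : Commute x (y ^ n) := (show Commute x y from hxy).zpow_right n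
      rw [hcomm.eq, mul_inv_cancel_right]
    intro a
    refine ⟨fun ha => by rwa [hc a ha], fun ha => ?_⟩
    have h3 := hc _ ha
    have : x * a * x⁻¹ = a := by
      have e : x * a * x⁻¹ = x⁻¹ * (x * (x * a * x⁻¹) * x⁻¹) * x := by group
      rw [h3] at e
      rw [e]
      group
    rwa [this] at ha
  exact XC.mul hA hP (mem_sup_left (mem_zpowers x)) (mem_sup_right (mem_zpowers y)) h1 h2

/-- **Conclusion.** -/
theorem eq_of_xc [Finite G] (hπ : Function.Surjective π) (hA : IsStronglyClosed A (S : Subgroup H)) (T : Sylow 2 G)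
    (h : ∀ x ∈ (T : Subgroup G), XC π A x) : A = (S : Subgroup H) := by
  have h2 : Fact (Nat.Prime 2) := ⟨Nat.prime_two⟩
  refine eq_of_cl hA fun x hx => ?_
  obtain ⟨g, hg⟩ := exists_conj_le (T.mapSurjective hπ) S.isPGroup'
  have h1 := hg x hx
  rw [Sylow.coe_mapSurjective] at h1
  obtain ⟨t, ht, hte⟩ := h1
  have h3 : Cl A (π t) := h t ht
  have h4 : Cl A (g * x * g⁻¹) := by rw [← hte]; exact h3
  exact h4.of_conj

/-- the conclusion with a 2-subgroup of full order -/
theorem eq_of_xc_card [Finite G] (hπ : Function.Surjective π) (hA : IsStronglyClosed A (S : Subgroup H))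
    {P : Subgroup G} (hP : IsPGroup 2 P) (hc : 2 ^ (Nat.card G).factorization 2 ≤ Nat.card P)
    (h : ∀ x ∈ P, XC π A x) : A = (S : Subgroup H) := by
  have h2 : Fact (Nat.Prime 2) := ⟨Nat.prime_two⟩
  obtain ⟨T, hT⟩ := hP.exists_le_sylow
  have h3 : Nat.card T ≤ Nat.card P := by rw [Sylow.card_eq_multiplicity]; exact hc
  have h4 : P = (T : Subgroup G) := Subgroup.eq_of_le_of_card_ge hT h3
  exact eq_of_xc hπ hA T fun x hx => h x (h4 ▸ hx)

/-- a nontrivial strongly closed subgroup gives an element outside the kernel with square in the kernel -/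
theorem exists_xc (hπ : Function.Surjective π) (hA : IsStronglyClosed A (S : Subgroup H)) (h : A ≠ ⊥) :
    ∃ x : G, XC π A x ∧ π x ≠ 1 ∧ π (x * x) = 1 := by
  obtain ⟨t, ht, htt, ht1⟩ := exists_involution hA h
  obtain ⟨x, rfl⟩ := hπ t
  exact ⟨x, cl_of_mem ht, ht1, by rw [map_mul, htt]⟩

end Cfsg.Agent.ClosedTwo.XCover

end

-- merged: Cfsg.Agent.ClosedTwo.PspWr
section

/-!
# S1252 for `PSp_2m(q)`, `q` odd: the wreath product `SL_2(q) wr Sym(m)` in `Sp_2m(q)` (helper5)
-/

set_option autoImplicit false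
set_option linter.unusedSectionVars false

namespace Cfsg.Agent.ClosedTwo.Psp

open Matrix Subgroup Cfsg Cfsg.Agent.ClassicalGeometry.SympBasic Cfsg.Agent.HoltZ.Psp

variable {F : Type*} [Field F] {m : ℕ}

local notation "V" => (Fin m ⊕ Fin m → F)
local notation "G" => Matrix.symplecticGroup (Fin m) F
local notation "f" => sympForm m F
local notation "Mat" => Matrix (Fin m ⊕ Fin m) (Fin m ⊕ Fin m) F
local notation "SL" => Matrix.SpecialLinearGroup (Fin 2) F

/-- the permutations of the planes, as a homomorphism -/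
def pmh : Equiv.Perm (Fin m) →* G where
  toFun := pm
  map_one' := by
    refine ext_mulVec fun v => ?_
    rw [pm_mulVec]
    change _ = (1 : Mat) *ᵥ v
    rw [one_mulVec]
    ext (i | i) <;> rfl
  map_mul' σ τ := by
    refine ext_mulVec fun v => ?_
    rw [coe_mul_mulVec, pm_mulVec, pm_mulVec, pm_mulVec]
    ext (i | i) <;> rfl

theorem pmh_apply (σ : Equiv.Perm (Fin m)) : (pmh σ : G) = pm σ := rfl

theorem pmh_mulVec (σ : Equiv.Perm (Fin m)) (v : V) : ((pmh σ : G) : Mat) *ᵥ v = pf σ v := pm_mulVec σ v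

/-- permuting the blocks -/
theorem pmh_blk (σ : Equiv.Perm (Fin m)) (g : Fin m → SL) :
    (pmh σ : G) * blk g * (pmh σ : G)⁻¹ = blk (fun i => g (σ.symm i)) := by
  rw [mul_inv_eq_iff_eq_mul]
  refine ext_mulVec fun v => ?_
  rw [coe_mul_mulVec, coe_mul_mulVec, pmh_mulVec, blk_mulVec, blk_mulVec, pmh_mulVec]
  ext (i | i)
  · rw [pf_inl, bf_inl, bf_inl, pf_inl, pf_inr]
  · rw [pf_inr, bf_inr, bf_inr, pf_inl, pf_inr]

theorem pmh_mulSingle (σ : Equiv.Perm (Fin m)) (i : Fin m) (a : SL) :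
    (pmh σ : G) * blk (Pi.mulSingle i a) * (pmh σ : G)⁻¹ = blk (Pi.mulSingle (σ i) a) := by
  rw [pmh_blk]
  congr 1
  funext k
  by_cases hk : k = σ i
  · subst hk
    rw [Equiv.symm_apply_apply, Pi.mulSingle_eq_same, Pi.mulSingle_eq_same]
  · rw [Pi.mulSingle_eq_of_ne hk, Pi.mulSingle_eq_of_ne (fun h => hk (by rw [← h, Equiv.apply_symm_apply]))]

theorem pf_single_inl (σ : Equiv.Perm (Fin m)) (i : Fin m) :
    pf σ (Pi.single (.inl i) 1 : V) = Pi.single (.inl (σ i)) 1 := by
  ext (k | k)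
  · rw [pf_inl]
    by_cases h : k = σ i
    · subst h
      rw [Equiv.symm_apply_apply, Pi.single_eq_same, Pi.single_eq_same]
    · rw [Pi.single_eq_of_ne (fun h' => h (Sum.inl.inj h')),
        Pi.single_eq_of_ne (fun h' => h (by rw [← Sum.inl.inj h', Equiv.apply_symm_apply]))]
  · rw [pf_inr, Pi.single_eq_of_ne (by simp), Pi.single_eq_of_ne (by simp)]

theorem pf_single_inr (σ : Equiv.Perm (Fin m)) (i : Fin m) :
    pf σ (Pi.single (.inr i) 1 : V) = Pi.single (.inr (σ i)) 1 := by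
  ext (k | k)
  · rw [pf_inl, Pi.single_eq_of_ne (by simp), Pi.single_eq_of_ne (by simp)]
  · rw [pf_inr]
    by_cases h : k = σ i
    · subst h
      rw [Equiv.symm_apply_apply, Pi.single_eq_same, Pi.single_eq_same]
    · rw [Pi.single_eq_of_ne (fun h' => h (Sum.inr.inj h')),
        Pi.single_eq_of_ne (fun h' => h (by rw [← Sum.inr.inj h', Equiv.apply_symm_apply]))]

theorem blk_injective : Function.Injective (blk : (Fin m → SL) → G) := by
  intro g h hgh
  have key : ∀ v : V, bf g v = bf h v := fun v => by rw [← blk_mulVec, ← blk_mulVec, hgh]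
  funext i
  have h1 := key (Pi.single (.inl i) 1)
  have h2 := key (Pi.single (.inr i) 1)
  have a1 := congrFun h1 (.inl i)
  have a2 := congrFun h1 (.inr i)
  have a3 := congrFun h2 (.inl i)
  have a4 := congrFun h2 (.inr i)
  simp only [bf_inl, bf_inr, Pi.single_eq_same, Pi.single_eq_of_ne (Sum.inl_ne_inr),
    Pi.single_eq_of_ne (Sum.inr_ne_inl), mul_one, mul_zero, add_zero, zero_add] at a1 a2 a3 a4
  apply Subtype.ext
  ext k l
  fin_cases k <;> fin_cases l
  · exact a1
  · exact a3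
  · exact a2
  · exact a4

/-- the map onto the wreath product is injective -/
theorem wr_injective : Function.Injective (fun p : (Fin m → SL) × Equiv.Perm (Fin m) => (blk p.1 * pmh p.2 : G)) := by
  rintro ⟨g, σ⟩ ⟨h, τ⟩ hgh
  change (blk g * pmh σ : G) = blk h * pmh τ at hgh
  have key : ∀ v : V, bf g (pf σ v) = bf h (pf τ v) := fun v => by
    have := congrArg (fun A : G => (A : Mat) *ᵥ v) hgh
    simp only [coe_mul_mulVec, blk_mulVec, pmh_mulVec] at this
    exact this
  have hst : σ = τ := by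
    ext i
    by_contra hne
    have hne' : σ i ≠ τ i := fun h => hne (congrArg Fin.val h)
    have h1 := key (Pi.single (.inl i) 1)
    rw [pf_single_inl, pf_single_inl] at h1
    have a1 := congrFun h1 (.inl (σ i))
    have a2 := congrFun h1 (.inr (σ i))
    rw [bf_inl, bf_inl, Pi.single_eq_same, Pi.single_eq_of_ne (Sum.inr_ne_inl),
      Pi.single_eq_of_ne (fun h' => hne' (Sum.inl.inj h')), Pi.single_eq_of_ne (Sum.inr_ne_inl)] at a1
    rw [bf_inr, bf_inr, Pi.single_eq_same, Pi.single_eq_of_ne (Sum.inr_ne_inl),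
      Pi.single_eq_of_ne (fun h' => hne' (Sum.inl.inj h')), Pi.single_eq_of_ne (Sum.inr_ne_inl)] at a2
    simp only [mul_one, mul_zero, add_zero] at a1 a2
    have hd := (g (σ i)).2
    rw [det_fin_two] at hd
    change g (σ i) 0 0 * g (σ i) 1 1 - g (σ i) 0 1 * g (σ i) 1 0 = 1 at hd
    rw [a1, a2, zero_mul, mul_zero, sub_zero] at hd
    exact zero_ne_one hd
  subst hst
  rw [blk_injective (mul_right_cancel hgh)]

/-- the wreath product `P wr T` -/
def Wr (P : Subgroup SL) (T : Subgroup (Equiv.Perm (Fin m))) : Subgroup G :=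
  (Subgroup.pi Set.univ (fun _ : Fin m => P)).map blk ⊔ T.map pmh

theorem blk_mem {P : Subgroup SL} {T : Subgroup (Equiv.Perm (Fin m))} {g : Fin m → SL} (h : ∀ i, g i ∈ P) :
    (blk g : G) ∈ Wr P T :=
  mem_sup_left (mem_map_of_mem _ fun i _ => h i)

theorem pmh_mem {P : Subgroup SL} {T : Subgroup (Equiv.Perm (Fin m))} {σ : Equiv.Perm (Fin m)} (h : σ ∈ T) :
    (pmh σ : G) ∈ Wr P T :=
  mem_sup_right (mem_map_of_mem _ h)

theorem single_mem {P : Subgroup SL} {T : Subgroup (Equiv.Perm (Fin m))} {i : Fin m} {a : SL} (h : a ∈ P) :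
    (blk (Pi.mulSingle i a) : G) ∈ Wr P T := by
  refine blk_mem fun k => ?_
  by_cases hk : k = i
  · subst hk; rw [Pi.mulSingle_eq_same]; exact h
  · rw [Pi.mulSingle_eq_of_ne hk]; exact P.one_mem

theorem isPGroup_pi {P : Subgroup SL} [Finite P] (hP : IsPGroup 2 P) :
    IsPGroup 2 ↥(Subgroup.pi Set.univ (fun _ : Fin m => P)) := by
  have h2 : Fact (Nat.Prime 2) := ⟨Nat.prime_two⟩
  obtain ⟨n, hn⟩ := hP.exists_card_eq
  refine fun g => ⟨n, Subtype.ext (funext fun i => ?_)⟩
  change (g : Fin m → SL) i ^ 2 ^ n = 1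
  have h1 : (⟨(g : Fin m → SL) i, g.2 i (Set.mem_univ i)⟩ : P) ^ Nat.card P = 1 := pow_card_eq_one'
  rw [hn] at h1
  exact congrArg Subtype.val h1

theorem isPGroup_wr {P : Subgroup SL} [Finite P] (hP : IsPGroup 2 P) {T : Subgroup (Equiv.Perm (Fin m))}
    (hT : IsPGroup 2 T) : IsPGroup 2 (Wr P T) := by
  have h2 : Fact (Nat.Prime 2) := ⟨Nat.prime_two⟩
  unfold Wr
  rw [sup_comm]
  refine IsPGroup.to_sup_of_normal_right' (hT.map _) ((isPGroup_pi hP).map _) ?_
  rintro _ ⟨σ, -, rfl⟩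
  have key : ∀ (τ : Equiv.Perm (Fin m)) (x : G), x ∈ (Subgroup.pi Set.univ (fun _ : Fin m => P)).map blk →
      (pmh τ : G) * x * (pmh τ : G)⁻¹ ∈ (Subgroup.pi Set.univ (fun _ : Fin m => P)).map blk := by
    rintro τ _ ⟨g, hg, rfl⟩
    rw [pmh_blk]
    exact mem_map_of_mem _ fun i _ => hg _ (Set.mem_univ _)
  rw [mem_normalizer_iff]
  intro x
  refine ⟨key σ x, fun h => ?_⟩
  have := key σ⁻¹ _ h
  rw [map_inv] at this
  have e : (pmh σ : G)⁻¹ * (pmh σ * x * (pmh σ)⁻¹) * ((pmh σ : G)⁻¹)⁻¹ = x := by group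
  rwa [e] at this

/-- the order of the wreath product -/
theorem card_wr_ge [Finite F] (P : Subgroup SL) (T : Subgroup (Equiv.Perm (Fin m))) :
    Nat.card P ^ m * Nat.card T ≤ Nat.card (Wr P T) := by
  classical
  let φ : (Fin m → P) × T → Wr P T := fun p =>
    ⟨blk (fun i => (p.1 i : SL)) * pmh (p.2 : Equiv.Perm (Fin m)),
      mul_mem (blk_mem fun i => (p.1 i).2) (pmh_mem p.2.2)⟩
  have hφ : Function.Injective φ := by
    rintro ⟨g, σ⟩ ⟨h, τ⟩ hgh
    have h1 := @wr_injective F _ m (fun i => (g i : SL), (σ : Equiv.Perm (Fin m)))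
      (fun i => (h i : SL), (τ : Equiv.Perm (Fin m))) (congrArg Subtype.val hgh)
    have h2 : g = h := funext fun i => Subtype.ext (congrFun (congrArg Prod.fst h1) i)
    have h3 : σ = τ := Subtype.ext (congrArg Prod.snd h1)
    rw [h2, h3]
  have hG : Finite G := inferInstance
  have := Nat.card_le_card_of_injective φ hφ
  rwa [Nat.card_prod, Nat.card_fun, Nat.card_eq_fintype_card (α := Fin m), Fintype.card_fin] at this

end Cfsg.Agent.ClosedTwo.Psp

end
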